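import Cfsg.Agent.Lib.ThreeTransp.M24Tetrad.Basic
import Cfsg.Agent.Lib.ThreeTransp.M24Prime.QuadFix

/-!
There are 126 sets of factors, each one commutes with 45 others, and the centraliser of the
product induces the symmetric group on each of them.
-/

set_option autoImplicit false
set_option linter.unusedSectionVars false

namespace Cfsg.Agent.ThreeTransp.M24Tetrad

open Cfsg.Agent.ThreeTransp
open Cfsg.Agent.ThreeTransp.Factor (nb Hd Sd Dq mem_Hd)
open Cfsg.Agent.ThreeTransp.M24Seven (Setting cd isProd_four)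
open Cfsg.Agent.ThreeTransp.M22 (IsProd)
open Cfsg.Agent.GenA.Tower (pr pr_mk pr_mul pr_inv pr_mem pr_inj pr_nb)

universe u

variable {G : Type u} [Group G] [Finite G] {D : Set G} (S : Setting D)
include S

/-- Ordered commuting quadruples are conjugate. -/
theorem four_trans {a b c θ a' b' c' θ' : G} (h : Four D a b c θ) (h' : Four D a' b' c' θ') :
    ∃ g : G, g * a * g⁻¹ = a' ∧ g * b * g⁻¹ = b' ∧ g * c * g⁻¹ = c' ∧ g * θ * g⁻¹ = θ' := by
  obtain ⟨g, hga, hgb, hgc⟩ := M24Prime.triple_trans S.hD S.prim S.facts h.1 h.2.1 h.2.2.1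
    h'.1 h'.2.1 h'.2.2.1
  have hg := h.conj S.hD g
  rw [hga, hgb, hgc] at hg
  obtain ⟨ha, hb, hc, hθ⟩ := hg
  have hq := h'.2.2.2
  have hD := S.hD
  have B := S.facts
  have hs := (B.lift a' ha).sep
  obtain ⟨K, hKb, hKc, hKq⟩ := M23Prime.triple_trans (B.grp a' ha) (B.prim a' ha) (B.t23 a' ha)
    (pr_mem hb) ((pr_nb hD hs hb hc.1).2 hc.2)
    ⟨(pr_nb hD hs hb hθ.1.1).2 hθ.1.2, (pr_nb hD hs hc.1 hθ.1.1).2 hθ.2⟩
    (pr_mem hb) ((pr_nb hD hs hb hc.1).2 hc.2)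
    ⟨(pr_nb hD hs hb hq.1.1).2 hq.1.2, (pr_nb hD hs hc.1 hq.1.1).2 hq.2⟩
  obtain ⟨⟨k, hk⟩, rfl⟩ := QuotientGroup.mk_surjective K
  have hka : k * a' * k⁻¹ = a' := M22.conj_eq_self_iff.2 (Factor.Hd_commute hk).symm
  have key : ∀ u ∈ nb D a', ∀ v ∈ nb D a',
      (QuotientGroup.mk ⟨k, hk⟩ : Sd D a') * pr D a' u *
        (QuotientGroup.mk ⟨k, hk⟩ : Sd D a')⁻¹ = pr D a' v → k * u * k⁻¹ = v := by
    intro u hu v hv h
    refine pr_inj hs (hka ▸ Cover.conj_nb hD k hu) hv ?_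
    rw [pr_mul (mul_mem hk (mem_Hd hu)) (inv_mem hk), pr_mul hk (mem_Hd hu), pr_inv hk, pr_mk hk]
    exact h
  have e : ∀ x : G, k * g * x * (k * g)⁻¹ = k * (g * x * g⁻¹) * k⁻¹ := fun x => by group
  refine ⟨k * g, ?_, ?_, ?_, ?_⟩ <;> rw [e]
  · rw [hga, hka]
  · rw [hgb, key b' hb b' hb hKb]
  · rw [hgc, key c' hc.1 c' hc.1 hKc]
  · exact key _ hθ.1.1 θ' hq.1.1 hKq

/-- Two ordered factorisations are carried to each other inside the centraliser. -/
theorem four_trans_centralizer {w a b c θ a' b' c' θ' : G} (h : Four D a b c θ)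
    (h' : Four D a' b' c' θ') (hw : w = a * (b * c * θ)) (hw' : w = a' * (b' * c' * θ')) :
    ∃ g : G, Commute g w ∧
      g * a * g⁻¹ = a' ∧ g * b * g⁻¹ = b' ∧ g * c * g⁻¹ = c' ∧ g * θ * g⁻¹ = θ' := by
  obtain ⟨g, h1, h2, h3, h4⟩ := four_trans S h h'
  refine ⟨g, M22.conj_eq_self_iff.1 ?_ , h1, h2, h3, h4⟩
  calc g * w * g⁻¹ = g * (a * (b * c * θ)) * g⁻¹ := by rw [← hw]
    _ = (g * a * g⁻¹) * ((g * b * g⁻¹) * (g * c * g⁻¹) * (g * θ * g⁻¹)) := by group
    _ = w := by rw [h1, h2, h3, h4, ← hw']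

theorem ncard_cd {w : G} (hw : IsProd D 4 w) (hne : (cd D w).Nonempty) :
    (cd D w).ncard = 504 := by
  obtain ⟨a, ha⟩ := hne
  obtain ⟨p, q, r, h, rfl⟩ := exists_four S hw ha
  rw [← M24Prime.quad_fixed S.hD S.facts S.prim h.1 h.2.1 h.2.2.1 h.2.2.2,
    show a * (p * q * r) = a * p * q * r by simp [mul_assoc]]
  rfl

/-- The members commuting with all of a set of factors, outside it. -/
theorem near_eq {w a p q r : G} (h : Four D a p q r) (hw : w = a * (p * q * r)) :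
    {x | x ∈ cd D w ∧ Commute x a} \ tet D w a =
      nb D a ∩ nb D p ∩ nb D q ∩ nb D r := by
  subst hw
  ext x
  rw [tet_eq S h rfl]
  constructor
  · rintro ⟨⟨hx, hxa⟩, hn⟩
    simp only [Set.mem_insert_iff, Set.mem_singleton_iff, not_or] at hn
    obtain ⟨h1, h2, h3⟩ :=
      M24Seven.commute_rest S h.1 h.2.1 h.2.2.1 h.2.2.2 hx.1 hx.2 hxa
    exact ⟨⟨⟨⟨hx.1, hn.1, hxa.symm⟩, hx.1, hn.2.1, h1.symm⟩, hx.1, hn.2.2.1, h2.symm⟩,
      hx.1, hn.2.2.2, h3.symm⟩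
  · rintro ⟨⟨⟨ha, hp⟩, hq⟩, hr⟩
    refine ⟨⟨⟨ha.1, ?_⟩, ha.2.2.symm⟩, ?_⟩
    · exact ha.2.2.symm.mul_right ((hp.2.2.symm.mul_right hq.2.2.symm).mul_right hr.2.2.symm)
    · simp only [Set.mem_insert_iff, Set.mem_singleton_iff, not_or]
      exact ⟨ha.2.1, hp.2.1, hq.2.1, hr.2.1⟩

theorem ncard_near {w a : G} (hw : IsProd D 4 w) (ha : a ∈ cd D w) :
    ({x | x ∈ cd D w ∧ Commute x a} \ tet D w a).ncard = 180 := by
  obtain ⟨p, q, r, h, rfl⟩ := exists_four S hw ha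
  rw [near_eq S h rfl]
  exact M24Prime.ncard_quad S.hD S.facts h.1 h.2.1 h.2.2.1 h.2.2.2

/-- A saturated set has four times as many members as sets of factors. -/
theorem ncard_saturated {w : G} (hw : IsProd D 4 w) {A : Set G} (hA : A ⊆ cd D w)
    (hsat : ∀ a ∈ A, tet D w a ⊆ A) : A.ncard = 4 * (tet D w '' A).ncard := by
  classical
  have := Fintype.ofFinite G
  rw [Set.ncard_eq_toFinset_card' A, Set.ncard_eq_toFinset_card' (tet D w '' A),
    Set.toFinset_image, mul_comm,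
    Finset.card_eq_sum_card_fiberwise (t := A.toFinset.image (tet D w)) (f := tet D w)
      fun x hx => Finset.mem_image_of_mem _ hx]
  refine Finset.sum_const_nat fun T hT => ?_
  obtain ⟨a, ha, rfl⟩ := Finset.mem_image.1 hT
  rw [Set.mem_toFinset] at ha
  rw [← ncard_tet S hw (hA ha), Set.ncard_eq_toFinset_card']
  congr 1
  ext x
  simp only [Finset.mem_filter, Set.mem_toFinset]
  exact ⟨fun h => h.2 ▸ mem_tet_self S hw (hA h.1),
    fun h => ⟨hsat a ha h, tet_of_mem S h⟩⟩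

theorem ncard_tetrads {w : G} (hw : IsProd D 4 w) (hne : (cd D w).Nonempty) :
    (tet D w '' cd D w).ncard = 126 := by
  have := ncard_saturated S hw Set.Subset.rfl fun a _ => tet_subset S (w := w) (a := a)
  rw [ncard_cd S hw hne] at this
  omega

theorem ncard_near_tetrads {w a : G} (hw : IsProd D 4 w) (ha : a ∈ cd D w) :
    (tet D w '' ({x | x ∈ cd D w ∧ Commute x a} \ tet D w a)).ncard = 45 := by
  have := ncard_saturated S hw (A := {x | x ∈ cd D w ∧ Commute x a} \ tet D w a)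
    (fun x hx => hx.1.1) fun x hx y hy => ?_
  · rw [ncard_near S hw ha] at this
    omega
  · refine ⟨⟨tet_subset S hy,
      (commute_congr S hw hx.1.1 ha hy (mem_tet_self S hw ha)).2 hx.1.2⟩, fun hya => hx.2 ?_⟩
    rw [← tet_of_mem S hya, tet_of_mem S hy]
    exact mem_tet_self S hw hx.1.1

end Cfsg.Agent.ThreeTransp.M24Tetrad
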