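import Cfsg.Agent.Lib.ThreeTransp.M24Seven.Quad
import Cfsg.Agent.Lib.ThreeTransp.Factor.Lists
import Cfsg.Agent.Lib.ThreeTransp.Cover

/-!
The members commuting with a product of four pairwise commuting members fall into sets of four,
the sets of factors of that product.
-/

set_option autoImplicit false
set_option linter.unusedSectionVars false

namespace Cfsg.Agent.ThreeTransp.M24Tetrad

open Cfsg.Agent.ThreeTransp
open Cfsg.Agent.ThreeTransp.Factor (nb Rel)
open Cfsg.Agent.ThreeTransp.M24Seven (Setting cd factor_at commute_rest isProd_four)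
open Cfsg.Agent.ThreeTransp.M22 (IsProd)

universe u

/-- Four different pairwise commuting members, in a given order. -/
def Four {G : Type u} [Group G] (D : Set G) (a p q r : G) : Prop :=
  a ∈ D ∧ p ∈ nb D a ∧ q ∈ nb D a ∩ nb D p ∧ r ∈ nb D a ∩ nb D p ∩ nb D q

section

variable {G : Type u} [Group G] {D : Set G}

theorem nb_symm {a x : G} (ha : a ∈ D) (hx : x ∈ nb D a) : a ∈ nb D x :=
  ⟨ha, hx.2.1.symm, hx.2.2.symm⟩

theorem Four.swap_first {a p q r : G} (h : Four D a p q r) : Four D p a q r := by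
  obtain ⟨ha, hp, hq, hr⟩ := h
  exact ⟨hp.1, nb_symm ha hp, ⟨hq.2, hq.1⟩, ⟨⟨hr.1.2, hr.1.1⟩, hr.2⟩⟩

theorem Four.swap_mid {a p q r : G} (h : Four D a p q r) : Four D a q p r := by
  obtain ⟨ha, hp, hq, hr⟩ := h
  exact ⟨ha, hq.1, ⟨hp, nb_symm hp.1 hq.2⟩, ⟨⟨hr.1.1, hr.2⟩, hr.1.2⟩⟩

theorem Four.swap_last {a p q r : G} (h : Four D a p q r) : Four D a p r q := by
  obtain ⟨ha, hp, hq, hr⟩ := h
  exact ⟨ha, hp, hr.1, ⟨hq, nb_symm hq.1.1 hr.2⟩⟩

theorem Four.conj [Finite G] (hD : Cfsg.IsThreeTranspositionGroup D) {a p q r : G} (h : Four D a p q r)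
    (g : G) : Four D (g * a * g⁻¹) (g * p * g⁻¹) (g * q * g⁻¹) (g * r * g⁻¹) := by
  obtain ⟨ha, hp, hq, hr⟩ := h
  exact ⟨hD.2.1 g a ha, Cover.conj_nb hD g hp, ⟨Cover.conj_nb hD g hq.1, Cover.conj_nb hD g hq.2⟩,
    ⟨Cover.conj_nb hD g hr.1.1, Cover.conj_nb hD g hr.1.2⟩, Cover.conj_nb hD g hr.2⟩

theorem Four.mem {a p q r x : G} (h : Four D a p q r) (hx : x = a ∨ x = p ∨ x = q ∨ x = r) :
    x ∈ D := by
  obtain ⟨ha, hp, hq, hr⟩ := h
  rcases hx with rfl | rfl | rfl | rfl
  · exact ha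
  · exact hp.1
  · exact hq.1.1
  · exact hr.1.1.1

theorem Four.commute_mem {a p q r x : G} (h : Four D a p q r)
    (hx : x = a ∨ x = p ∨ x = q ∨ x = r) :
    Commute x a ∧ Commute x p ∧ Commute x q ∧ Commute x r := by
  obtain ⟨-, hp, hq, hr⟩ := h
  rcases hx with rfl | rfl | rfl | rfl
  · exact ⟨Commute.refl _, hp.2.2, hq.1.2.2, hr.1.1.2.2⟩
  · exact ⟨hp.2.2.symm, Commute.refl _, hq.2.2.2, hr.1.2.2.2⟩
  · exact ⟨hq.1.2.2.symm, hq.2.2.2.symm, Commute.refl _, hr.2.2.2⟩
  · exact ⟨hr.1.1.2.2.symm, hr.1.2.2.2.symm, hr.2.2.2.symm, Commute.refl _⟩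

theorem Four.commute_prod {a p q r x : G} (h : Four D a p q r)
    (hx : x = a ∨ x = p ∨ x = q ∨ x = r) : Commute x (a * (p * q * r)) := by
  obtain ⟨h1, h2, h3, h4⟩ := h.commute_mem hx
  exact h1.mul_right ((h2.mul_right h3).mul_right h4)

theorem Four.ncard {a p q r : G} (h : Four D a p q r) :
    ({a, p, q, r} : Set G).ncard = 4 := by
  obtain ⟨-, hp, hq, hr⟩ := h
  rw [Set.ncard_insert_of_notMem, Set.ncard_insert_of_notMem, Set.ncard_insert_of_notMem,
    Set.ncard_singleton]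
  · simp [hr.2.2.1.symm]
  · simp [hq.2.2.1.symm, hr.1.2.2.1.symm]
  · simp [hp.2.1.symm, hq.1.2.1.symm, hr.1.1.2.1.symm]

/-- Rotating the first factor of the product to the second place. -/
theorem Four.prod_first {a p q r : G} (h : Four D a p q r) :
    p * (a * q * r) = a * (p * q * r) := by
  rw [mul_assoc a q r, mul_assoc p q r, ← mul_assoc p a, ← mul_assoc a p,
    (h.2.1.2.2 : Commute a p).eq]

theorem Four.prod_mid {a p q r : G} (h : Four D a p q r) :
    a * (q * p * r) = a * (p * q * r) := by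
  rw [(h.2.2.1.2.2.2 : Commute p q).eq]

theorem Four.prod_last {a p q r : G} (h : Four D a p q r) :
    a * (p * r * q) = a * (p * q * r) := by
  rw [mul_assoc p r q, mul_assoc p q r, (h.2.2.2.2.2.2 : Commute q r).eq]

end

/-- The factors of `w` at the member `a` commuting with it. -/
def tet {G : Type u} [Group G] (D : Set G) (w a : G) : Set G :=
  {x | ∃ p q r, Four D a p q r ∧ w = a * (p * q * r) ∧ (x = a ∨ x = p ∨ x = q ∨ x = r)}

variable {G : Type u} [Group G] [Finite G] {D : Set G} (S : Setting D)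
include S

/-- The product is split at a member commuting with it. -/
theorem exists_four {w a : G} (hw : IsProd D 4 w) (ha : a ∈ cd D w) :
    ∃ p q r, Four D a p q r ∧ w = a * (p * q * r) := by
  obtain ⟨p, q, r, hp, hq, hr, e⟩ := factor_at S hw ha.1 ha.2
  exact ⟨p, q, r, ⟨ha.1, hp, hq, hr⟩, e⟩

theorem tet_eq {w a p q r : G} (h : Four D a p q r) (hw : w = a * (p * q * r)) :
    tet D w a = {a, p, q, r} := by
  ext x
  simp only [Set.mem_insert_iff, Set.mem_singleton_iff]
  constructor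
  · rintro ⟨p', q', r', h', hw', hx⟩
    rcases hx with hx | hx
    · exact Or.inl hx
    right
    have he : p' * q' * r' = p * q * r := mul_left_cancel (hw'.symm.trans hw)
    have key := Factor.list_triple S.hD (S.rel.mono (by norm_num)) (p * q * r) [p', q', r']
      [p, q, r] ?_ ?_ x
    · simpa using key.1 (by simpa using hx)
    · obtain ⟨-, hp, hq, hr⟩ := h'
      refine ⟨?_, rfl, ?_, ?_, by simpa [mul_assoc] using he⟩
      · simp [hq.2.2.1.symm, hr.1.2.2.1.symm, hr.2.2.1.symm]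
      · simp [hp.1, hq.1.1, hr.1.1.1]
      · simp [hq.2.2.2, hq.2.2.2.symm, hr.1.2.2.2, hr.1.2.2.2.symm, hr.2.2.2, hr.2.2.2.symm]
    · obtain ⟨-, hp, hq, hr⟩ := h
      refine ⟨?_, rfl, ?_, ?_, by simp [mul_assoc]⟩
      · simp [hq.2.2.1.symm, hr.1.2.2.1.symm, hr.2.2.1.symm]
      · simp [hp.1, hq.1.1, hr.1.1.1]
      · simp [hq.2.2.2, hq.2.2.2.symm, hr.1.2.2.2, hr.1.2.2.2.symm, hr.2.2.2, hr.2.2.2.symm]
  · exact fun hx => ⟨p, q, r, h, hw, hx⟩

theorem mem_tet_self {w a : G} (hw : IsProd D 4 w) (ha : a ∈ cd D w) : a ∈ tet D w a := by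
  obtain ⟨p, q, r, h, e⟩ := exists_four S hw ha
  exact ⟨p, q, r, h, e, Or.inl rfl⟩

theorem tet_subset {w a : G} : tet D w a ⊆ cd D w := by
  rintro x ⟨p, q, r, h, rfl, hx⟩
  exact ⟨h.mem hx, h.commute_prod hx⟩

/-- The factors at a factor are the same. -/
theorem tet_of_mem {w a x : G} (hx : x ∈ tet D w a) : tet D w x = tet D w a := by
  obtain ⟨p, q, r, h, e, hx⟩ := hx
  rw [tet_eq S h e]
  rcases hx with rfl | rfl | rfl | rfl
  · exact tet_eq S h e
  · rw [tet_eq S h.swap_first (e.trans h.prod_first.symm), Set.insert_comm]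
  · rw [tet_eq S h.swap_mid.swap_first (e.trans (h.prod_mid.symm.trans h.swap_mid.prod_first.symm)),
      Set.insert_comm, Set.insert_comm x p]
  · rw [tet_eq S h.swap_last.swap_mid.swap_first (e.trans (h.prod_last.symm.trans
      (h.swap_last.prod_mid.symm.trans h.swap_last.swap_mid.prod_first.symm))),
      Set.insert_comm x a, Set.insert_comm x p, Set.pair_comm x q]

theorem ncard_tet {w a : G} (hw : IsProd D 4 w) (ha : a ∈ cd D w) : (tet D w a).ncard = 4 := by
  obtain ⟨p, q, r, h, e⟩ := exists_four S hw ha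
  rw [tet_eq S h e]
  exact h.ncard

theorem commute_tet {w a x y : G} (hx : x ∈ tet D w a) (hy : y ∈ tet D w a) : Commute x y := by
  obtain ⟨p, q, r, h, e, hx⟩ := hx
  rw [tet_eq S h e] at hy
  simp only [Set.mem_insert_iff, Set.mem_singleton_iff] at hy
  obtain ⟨h1, h2, h3, h4⟩ := h.commute_mem hx
  rcases hy with rfl | rfl | rfl | rfl
  · exact h1
  · exact h2
  · exact h3
  · exact h4

/-- Commuting with one factor is commuting with all. -/
theorem commute_all {w a y : G} (hy : y ∈ cd D w) (hya : Commute y a) :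
    ∀ x ∈ tet D w a, Commute y x := by
  rintro x ⟨p, q, r, h, rfl, hx⟩
  obtain ⟨h1, h2, h3⟩ := commute_rest S h.1 h.2.1 h.2.2.1 h.2.2.2 hy.1 hy.2 hya
  rcases hx with rfl | rfl | rfl | rfl
  · exact hya
  · exact h1
  · exact h2
  · exact h3

/-- The commuting relation descends to the sets of factors. -/
theorem commute_congr {w a b x y : G} (hw : IsProd D 4 w) (ha : a ∈ cd D w) (hb : b ∈ cd D w)
    (hx : x ∈ tet D w a) (hy : y ∈ tet D w b) : Commute x y ↔ Commute a b := by
  have key : ∀ {a b x y : G}, a ∈ cd D w → x ∈ tet D w a → y ∈ tet D w b →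
      Commute a b → Commute x y := by
    intro a b x y ha hx hy hab
    have h1 : Commute a y := commute_all S ha hab y hy
    exact (commute_all S (tet_subset S hy) h1.symm x hx).symm
  refine ⟨fun h => key (tet_subset S hx) ?_ ?_ h, fun h => key ha hx hy h⟩
  · rw [tet_of_mem S hx]; exact mem_tet_self S hw ha
  · rw [tet_of_mem S hy]; exact mem_tet_self S hw hb

/-- The sets of factors are carried along by the centraliser of the product. -/
theorem tet_conj {w a g : G} (hg : Commute g w) (hw : IsProd D 4 w) (ha : a ∈ cd D w) :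
    tet D w (g * a * g⁻¹) = (fun x => g * x * g⁻¹) '' tet D w a := by
  obtain ⟨p, q, r, h, e⟩ := exists_four S hw ha
  rw [tet_eq S h e, tet_eq S (h.conj S.hD g) (by
    calc w = g * w * g⁻¹ := by rw [hg.eq, mul_inv_cancel_right]
      _ = g * (a * (p * q * r)) * g⁻¹ := by rw [← e]
      _ = _ := by group)]
  simp [Set.image_insert_eq]

theorem conj_mem_cd {w g x : G} (hg : Commute g w) (hx : x ∈ cd D w) : g * x * g⁻¹ ∈ cd D w := by
  refine ⟨S.hD.2.1 g x hx.1, ?_⟩
  have : g * w * g⁻¹ = w := by rw [hg.eq, mul_inv_cancel_right]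
  rw [← this]
  exact Basic.commute_conj.2 hx.2

end Cfsg.Agent.ThreeTransp.M24Tetrad
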